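import Groth.Agent.SekSuwa2.AKFree
import Groth.Prelude.Def_SekSuwa2
import Groth.Prelude.Def_AlgGrp
import Mathlib

/-!
# Geometric points of `G_{λ,p}` and actions by automorphisms
-/

set_option autoImplicit false
set_option linter.style.haveILetI false

universe u

open CategoryTheory AlgebraicGeometry MonoidalCategory CartesianMonoidalCategory MonObj
open scoped TensorProduct

namespace Groth.Agent.SekSuwa2

/-- An action by automorphisms of a group of prime order on another one is trivial. -/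
theorem act_points_trivial {S : Scheme.{u}} {G X : Over S} [GrpObj G] [GrpObj X] (a : AlgGrp.Action G X)
    (T : Over S) (hmul : ∀ (g : T ⟶ G) (x y : T ⟶ X), lift g (x * y) ≫ a.act = (lift g x ≫ a.act) * (lift g y ≫ a.act))
    (p : ℕ) [Fact p.Prime] (hG : Nat.card (T ⟶ G) = p) (hX : Nat.card (T ⟶ X) = p) (g : T ⟶ G) (x : T ⟶ X) :
    lift g x ≫ a.act = x := by
  have hone : ∀ x : T ⟶ X, lift (1 : T ⟶ G) x ≫ a.act = x := fun x => by
    rw [show (1 : T ⟶ G) = toUnit T ≫ η[G] from rfl, ← lift_whiskerRight, Category.assoc, a.one_act,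
      lift_leftUnitor_hom]
  have hmul' : ∀ (g g' : T ⟶ G) (x : T ⟶ X), lift (g * g') x ≫ a.act = lift g (lift g' x ≫ a.act) ≫ a.act :=
    fun g g' x => by
    rw [show g * g' = lift g g' ≫ μ[G] from rfl, ← lift_whiskerRight, Category.assoc, a.mul_act,
      ← Category.assoc, lift_lift_associator_hom, ← Category.assoc, lift_whiskerLeft]
  let φ : (T ⟶ G) →* MulAut (T ⟶ X) :=
    { toFun := fun g =>
        { toFun := fun x => lift g x ≫ a.act
          invFun := fun x => lift g⁻¹ x ≫ a.act
          left_inv := fun x => by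
            show lift g⁻¹ (lift g x ≫ a.act) ≫ a.act = x
            rw [← hmul', inv_mul_cancel, hone]
          right_inv := fun x => by
            show lift g (lift g⁻¹ x ≫ a.act) ≫ a.act = x
            rw [← hmul', mul_inv_cancel, hone]
          map_mul' := hmul g }
      map_one' := MulEquiv.ext hone
      map_mul' := fun g g' => MulEquiv.ext (hmul' g g') }
  have hp : p.Prime := Fact.out
  haveI : Finite (T ⟶ X) := Nat.finite_of_card_ne_zero (hX ▸ hp.ne_zero)
  haveI : Finite (T ⟶ G) := Nat.finite_of_card_ne_zero (hG ▸ hp.ne_zero)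
  haveI : IsCyclic (T ⟶ X) := isCyclic_of_prime_card hX
  have h1 : orderOf (φ g) ∣ p := (orderOf_map_dvd φ g).trans (hG ▸ orderOf_dvd_natCard g)
  have h2 : orderOf (φ g) ∣ p - 1 := by
    rw [← Nat.totient_prime hp, ← hX, ← IsCyclic.card_mulAut]
    exact orderOf_dvd_natCard _
  have h3 : φ g = 1 := by
    rcases hp.eq_one_or_self_of_dvd _ h1 with h | h
    · exact orderOf_eq_one_iff.1 h
    · rw [h] at h2
      have := Nat.le_of_dvd (Nat.sub_pos_of_lt hp.one_lt) h2
      have := hp.two_le
      exfalso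
      omega
  exact MulEquiv.congr_fun h3 x

variable {R : Type u} [CommRing R] [IsDomain R] {lam : R} {p : ℕ} (h : SekSuwa.DivCond lam p)
  (L : Type u) [Field L] [Algebra R L]

/-- The `R`-scheme `Spec L`. -/
noncomputable abbrev pt : Over (Spec (CommRingCat.of R)) :=
  Over.mk (Spec.map (CommRingCat.ofHom (algebraMap R L)))

/-- The point attached to an algebra homomorphism. -/
noncomputable def ptHom (ga : SekSuwa.AK R lam p h →ₐ[R] L) : pt (R := R) L ⟶ SekSuwa.GK R lam p h :=
  Over.homMk (Spec.map (CommRingCat.ofHom ga.toRingHom)) (by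
    show Spec.map _ ≫ Spec.map (CommRingCat.ofHom (algebraMap R (SekSuwa.AK R lam p h))) = Spec.map _
    rw [← Spec.map_comp, ← CommRingCat.ofHom_comp, ga.toRingHom_eq_coe, AlgHom.comp_algebraMap])

theorem card_points [IsAlgClosed L] [CharZero L] (hlam : algebraMap R L lam ≠ 0) [Fact p.Prime] :
    Nat.card (pt (R := R) L ⟶ SekSuwa.GK R lam p h) = p ∧
      Nat.card (SekSuwa.AK R lam p h →ₐ[R] L) = p := by
  have hp : p.Prime := Fact.out
  have h1 : Function.Bijective (ptHom h L) := by
    refine ⟨fun ga de e => ?_, fun k => ?_⟩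
    · have := congrArg CommaMorphism.left e
      exact AlgHom.ext fun z => ConcreteCategory.congr_hom (Spec.map_injective this) z
    · obtain ⟨κ, hκ⟩ := Spec.map_surjective k.left
      have hw : Spec.map κ ≫ Spec.map (CommRingCat.ofHom (algebraMap R (SekSuwa.AK R lam p h))) =
          Spec.map (CommRingCat.ofHom (algebraMap R L)) := by
        rw [hκ]; exact Over.w k
      rw [← Spec.map_comp] at hw
      have hc := Spec.map_injective hw
      exact ⟨{ κ.hom with commutes' := fun r => ConcreteCategory.congr_hom hc r }, Over.OverMorphism.ext hκ⟩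
  let q : (SekSuwa.AK R lam p h →ₐ[R] L) → rootsOfUnity p L := fun ga =>
    rootsOfUnity.mkOfPowEq (n := p) (1 + algebraMap R L lam * ga SekSuwa.AK.t) (by
      have := congrArg ga (SekSuwa.AK.u_pow (R := R) (lam := lam) (N := p) (h := h))
      rwa [map_pow, map_add, map_one, map_smul, Algebra.smul_def] at this)
  have h2 : Function.Bijective q := by
    refine ⟨fun ga de e => ?_, fun z => ?_⟩
    · have e' := congrArg (fun z : rootsOfUnity p L => ((z : Lˣ) : L)) e
      simp only [q, rootsOfUnity.val_mkOfPowEq_coe, add_right_inj, mul_right_inj' hlam] at e'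
      refine SekSuwa.AK.algHom_ext e' ?_
      have h3 : (1 + lam • (SekSuwa.AK.t : SekSuwa.AK R lam p h)) * SekSuwa.AK.inv = 1 := by
        rw [← SekSuwa.AK.mkHom_u]
        show SekSuwa.AK.mkHom R lam p h SekSuwa.A.u * SekSuwa.AK.mkHom R lam p h SekSuwa.A.inv = 1
        rw [← map_mul, SekSuwa.A.u_mul_inv, map_one]
      have a1 := congrArg ga h3
      have a2 := congrArg de h3
      rw [map_mul, map_one, map_add, map_one, map_smul] at a1 a2
      rw [e'] at a1
      exact (IsUnit.of_mul_eq_one _ a2).mul_left_cancel (a1.trans a2.symm)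
    · let b : L := (((z : Lˣ) : L) - 1) / algebraMap R L lam
      have hb : 1 + algebraMap R L lam * b = ((z : Lˣ) : L) := by simp [b, mul_div_cancel₀ _ hlam]
      obtain ⟨e, he⟩ := exists_equiv h hp.pos
      have hP : Polynomial.aeval b (SekSuwa.psiPoly lam p h) = 0 := by
        have h4 := SekSuwa.aeval_psiPoly h b
        rw [hb, ← Units.val_pow_eq_pow_val, (mem_rootsOfUnity p (z : Lˣ)).1 z.2, Units.val_one, sub_self] at h4
        exact (mul_eq_zero.1 h4).resolve_left (by rw [map_pow]; exact pow_ne_zero _ hlam)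
      let ga₀ : AdjoinRoot (SekSuwa.psiPoly lam p h) →ₐ[R] L :=
        AdjoinRoot.liftAlgHom _ (Algebra.ofId R L) b (by exact hP)
      refine ⟨ga₀.comp e.symm.toAlgHom, Subtype.ext (Units.ext ?_)⟩
      have ht : e.symm SekSuwa.AK.t = AdjoinRoot.root _ := by rw [← he, AlgEquiv.symm_apply_apply]
      simp [q, ga₀, ht, hb]
  haveI : NeZero (p : L) := ⟨Nat.cast_ne_zero.2 hp.ne_zero⟩
  haveI : NeZero p := ⟨hp.ne_zero⟩
  have h5 : Nat.card (SekSuwa.AK R lam p h →ₐ[R] L) = p := by
    rw [Nat.card_congr (Equiv.ofBijective q h2), HasEnoughRootsOfUnity.natCard_rootsOfUnity]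
  exact ⟨(Nat.card_congr (Equiv.ofBijective _ h1).symm).trans h5, h5⟩

theorem eq_zero_of_points {mu : R} (h' : SekSuwa.DivCond mu p) [IsAlgClosed L] [CharZero L]
    (hinj : Function.Injective (algebraMap R L)) (hlam : algebraMap R L lam ≠ 0) (hmu : algebraMap R L mu ≠ 0)
    [Fact p.Prime] (z : SekSuwa.AK R mu p h' ⊗[R] SekSuwa.AK R lam p h)
    (hz : ∀ (ga : SekSuwa.AK R mu p h' →ₐ[R] L) (de : SekSuwa.AK R lam p h →ₐ[R] L),
      Algebra.TensorProduct.lift ga de (fun _ _ => Commute.all _ _) z = 0) : z = 0 := by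
  have hp : p.Prime := Fact.out
  have sep : ∀ {ν : R} (hν : SekSuwa.DivCond ν p), algebraMap R L ν ≠ 0 → ∀ v : Fin p → L,
      (∀ de : SekSuwa.AK R ν p hν →ₐ[R] L, ∑ i, v i * de SekSuwa.AK.t ^ (i : ℕ) = 0) → v = 0 := by
    intro ν hν hν0 v hv
    obtain ⟨-, hc⟩ := card_points hν L hν0
    haveI : Finite (SekSuwa.AK R ν p hν →ₐ[R] L) := Nat.finite_of_card_ne_zero (by rw [hc]; exact hp.ne_zero)
    let en := (Finite.equivFinOfCardEq hc).symm
    refine Matrix.eq_zero_of_forall_index_sum_mul_pow_eq_zero (f := fun j => en j SekSuwa.AK.t) ?_ (fun j => hv (en j))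
    intro i j e
    apply en.injective
    refine SekSuwa.AK.algHom_ext e ?_
    have h3 : (1 + ν • (SekSuwa.AK.t : SekSuwa.AK R ν p hν)) * SekSuwa.AK.inv = 1 := by
      rw [← SekSuwa.AK.mkHom_u]
      show SekSuwa.AK.mkHom R ν p hν SekSuwa.A.u * SekSuwa.AK.mkHom R ν p hν SekSuwa.A.inv = 1
      rw [← map_mul, SekSuwa.A.u_mul_inv, map_one]
    have a1 := congrArg (en i) h3
    have a2 := congrArg (en j) h3
    rw [map_mul, map_one, map_add, map_one, map_smul] at a1 a2
    rw [show en i SekSuwa.AK.t = en j SekSuwa.AK.t from e] at a1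
    exact (IsUnit.of_mul_eq_one _ a2).mul_left_cancel (a1.trans a2.symm)
  obtain ⟨bl, hbl⟩ := exists_basis h hp.pos
  obtain ⟨bm, hbm⟩ := exists_basis h' hp.pos
  let bb := bm.tensorProduct bl
  refine bb.forall_coord_eq_zero_iff.1 ?_
  rintro ⟨i, j⟩
  let c : Fin p × Fin p → R := fun ij => bb.repr z ij
  have hsum : z = ∑ ij, c ij • bb ij := (bb.sum_repr z).symm
  have h1 : ∀ (ga : SekSuwa.AK R mu p h' →ₐ[R] L),
      (fun j => ∑ i, algebraMap R L (c (i, j)) * ga SekSuwa.AK.t ^ (i : ℕ)) = 0 := fun ga => by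
    refine sep h hlam _ fun de => ?_
    have := hz ga de
    rw [hsum] at this
    simp only [map_sum, map_smul, bb, Module.Basis.tensorProduct_apply, hbl, hbm,
      Algebra.TensorProduct.lift_tmul, map_pow, Fintype.sum_prod_type] at this
    rw [Finset.sum_comm] at this
    rw [← this]
    refine Finset.sum_congr rfl fun j _ => ?_
    rw [Finset.sum_mul]
    exact Finset.sum_congr rfl fun i _ => by rw [Algebra.smul_def, _root_.mul_assoc]
  have h2 := sep h' hmu (fun i => algebraMap R L (c (i, j))) fun ga => congrFun (h1 ga) j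
  exact hinj ((congrFun h2 i).trans (map_zero _).symm)

end Groth.Agent.SekSuwa2
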