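import Groth.Prelude.Def_SekSuwa2
import Mathlib

/-!
# The coordinate ring of `G_{λ,N}` is `R[X]/(P)`
-/

set_option autoImplicit false
set_option linter.style.haveILetI false

universe u

open Polynomial

namespace Groth.Agent.SekSuwa2

variable {R : Type u} [CommRing R] {lam : R} {N : ℕ} (h : SekSuwa.DivCond lam N)

theorem coeff_psiPoly (hN : 0 < N) :
    (SekSuwa.psiPoly lam N h).coeff N = 1 ∧ ∀ i, N < i → (SekSuwa.psiPoly lam N h).coeff i = 0 := by
  have hspec := SekSuwa.psiPoly_spec h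
  have key : ∀ i, 0 < i → lam ^ N * (SekSuwa.psiPoly lam N h).coeff i = lam ^ i * (N.choose i : R) := fun i hi => by
    have := congrArg (fun p : R[X] => p.coeff i) hspec
    simp only [coeff_C_mul, coeff_sub, coeff_one, if_neg hi.ne'] at this
    rw [this, sub_zero, add_comm, show (Polynomial.C lam * X + 1 : R[X]) ^ N =
      ((X + 1) ^ N).comp (Polynomial.C lam * X) by simp, comp_C_mul_X_coeff, coeff_X_add_one_pow, mul_comm]
  have hz : lam ^ N ∈ nonZeroDivisors R := SekSuwa.DivCond.pow_nzd h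
  refine ⟨SekSuwa.cancel_nzd hz ?_, fun i hi => SekSuwa.cancel_nzd hz ?_⟩
  · rw [key N hN, Nat.choose_self, Nat.cast_one]
  · rw [key i (hN.trans hi), Nat.choose_eq_zero_of_lt hi, Nat.cast_zero, mul_zero, mul_zero]

theorem natDegree_psiPoly_le (hN : 0 < N) : (SekSuwa.psiPoly lam N h).natDegree ≤ N :=
  natDegree_le_iff_coeff_eq_zero.2 (coeff_psiPoly h hN).2

theorem monic_psiPoly (hN : 0 < N) : (SekSuwa.psiPoly lam N h).Monic :=
  monic_of_natDegree_le_of_coeff_eq_one N (natDegree_psiPoly_le h hN) (coeff_psiPoly h hN).1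

theorem natDegree_psiPoly [Nontrivial R] (hN : 0 < N) : (SekSuwa.psiPoly lam N h).natDegree = N :=
  natDegree_eq_of_le_of_coeff_ne_zero (natDegree_psiPoly_le h hN) (by rw [(coeff_psiPoly h hN).1]; exact one_ne_zero)

theorem exists_equiv (hN : 0 < N) :
    ∃ e : AdjoinRoot (SekSuwa.psiPoly lam N h) ≃ₐ[R] SekSuwa.AK R lam N h,
      e (AdjoinRoot.root _) = SekSuwa.AK.t := by
  set P := SekSuwa.psiPoly lam N h
  let x : AdjoinRoot P := AdjoinRoot.root P
  have hx : aeval x P = 0 := by rw [AdjoinRoot.aeval_eq, AdjoinRoot.mk_self]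
  have hu : (1 + lam • x) * (1 + lam • x) ^ (N - 1) = 1 := by
    rw [← pow_succ', Nat.sub_add_cancel hN, Algebra.smul_def]
    have := SekSuwa.aeval_psiPoly h x
    rw [hx, mul_zero] at this
    exact sub_eq_zero.1 this.symm
  let g₀ : SekSuwa.A R lam →ₐ[R] AdjoinRoot P := SekSuwa.A.lift R lam x _ hu
  have hg₀ : g₀ SekSuwa.A.t = x := SekSuwa.A.lift_t _ _ hu
  let g : SekSuwa.AK R lam N h →ₐ[R] AdjoinRoot P :=
    Ideal.Quotient.liftₐ (SekSuwa.kerIdeal lam N h) g₀ fun a ha => by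
      obtain ⟨d, rfl⟩ := Ideal.mem_span_singleton'.mp ha
      rw [map_mul, SekSuwa.kerGen, ← aeval_algHom_apply, hg₀, hx, mul_zero]
  have hgt : g SekSuwa.AK.t = x := hg₀
  let f : AdjoinRoot P →ₐ[R] SekSuwa.AK R lam N h :=
    AdjoinRoot.liftAlgHom P (Algebra.ofId R _) SekSuwa.AK.t (by
      show aeval (SekSuwa.AK.t : SekSuwa.AK R lam N h) P = 0
      exact SekSuwa.AK.aeval_t)
  have hft : f x = SekSuwa.AK.t := AdjoinRoot.liftAlgHom_root _ _ _ _
  refine ⟨AlgEquiv.ofAlgHom f g (SekSuwa.AK.algHom_ext ?_ ?_) (AdjoinRoot.algHom_ext ?_), hft⟩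
  · rw [AlgHom.comp_apply, hgt, hft, AlgHom.id_apply]
  · have h1 : (1 + lam • (SekSuwa.AK.t : SekSuwa.AK R lam N h)) * SekSuwa.AK.inv = 1 := by
      rw [← SekSuwa.AK.mkHom_u]
      show SekSuwa.AK.mkHom R lam N h SekSuwa.A.u * SekSuwa.AK.mkHom R lam N h SekSuwa.A.inv = 1
      rw [← map_mul, SekSuwa.A.u_mul_inv, map_one]
    have h2 := congrArg (f.comp g) h1
    rw [map_mul, map_one, map_add, map_one, map_smul, AlgHom.comp_apply f g SekSuwa.AK.t, hgt, hft] at h2
    exact (IsUnit.of_mul_eq_one _ h1).mul_left_cancel (h2.trans h1.symm)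
  · show g (f x) = x
    rw [hft, hgt]

theorem free_finite (hN : 0 < N) : Module.Free R (SekSuwa.AK R lam N h) ∧ Module.Finite R (SekSuwa.AK R lam N h) ∧
    (Nontrivial R → Module.finrank R (SekSuwa.AK R lam N h) = N) := by
  obtain ⟨e, -⟩ := exists_equiv h hN
  have hm := monic_psiPoly h hN
  haveI := hm.free_adjoinRoot
  haveI := hm.finite_adjoinRoot
  refine ⟨Module.Free.of_equiv e.toLinearEquiv, Module.Finite.equiv e.toLinearEquiv, fun _ => ?_⟩
  rw [← e.toLinearEquiv.finrank_eq, (AdjoinRoot.powerBasis' hm).finrank]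
  exact natDegree_psiPoly h hN

theorem exists_basis [Nontrivial R] (hN : 0 < N) :
    ∃ b : Module.Basis (Fin N) R (SekSuwa.AK R lam N h), ∀ i, b i = SekSuwa.AK.t ^ (i : ℕ) := by
  obtain ⟨e, he⟩ := exists_equiv h hN
  let pb := AdjoinRoot.powerBasis' (monic_psiPoly h hN)
  refine ⟨(pb.basis.map e.toLinearEquiv).reindex (finCongr (natDegree_psiPoly h hN)), fun i => ?_⟩
  simp [pb, he]

end Groth.Agent.SekSuwa2
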